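import Groth.Agent.UnivInjHensel.Basic
import Groth.Agent.FlatModel.FibreCrit
import Groth.Agent.FPDescent.Basic
import Groth.Agent.RG.ModMaxInj
import Groth.Agent.RG.PureKey
import Groth.Agent.RG.CompleteBC
import Groth.Agent.ZClosLib.NzdAssoc
import Mathlib.RingTheory.Localization.LocalizationLocalization

/-!
# Ingredients for pure spreadouts
-/

set_option autoImplicit false
set_option linter.style.haveILetI false
set_option linter.unusedSectionVars false
set_option backward.isDefEq.respectTransparency false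
set_option backward.isDefEq.respectTransparency.types false
set_option maxHeartbeats 1000000

universe u

open TensorProduct Groth.Agent.ZClosLib

namespace Groth.Agent.PureSpread

/-- A finitely presented module over a localisation is the localisation of a finitely presented module. -/
theorem exists_fp_model {B : Type u} [CommRing B] (T : Submonoid B) (N : Type u) [AddCommGroup N]
    [Module (Localization T) N] [Module B N] [IsScalarTower B (Localization T) N]
    [Module.FinitePresentation (Localization T) N] :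
    ∃ (N₁ : Type u) (_ : AddCommGroup N₁) (_ : Module B N₁) (f : N₁ →ₗ[B] N),
      Module.FinitePresentation B N₁ ∧ IsLocalizedModule T f := by
  classical
  haveI hid : IsLocalizedModule T (LinearMap.id : N →ₗ[B] N) := by
    refine ⟨fun t => ?_, fun y => ⟨(y, 1), by simp⟩, fun h => ⟨1, by simpa using h⟩⟩
    have hu : IsUnit (algebraMap B (Localization T) t) := IsLocalization.map_units _ t
    rw [Module.End.isUnit_iff]
    refine ⟨fun a b hab => ?_, fun b => ⟨(hu.unit⁻¹ : (Localization T)ˣ).val • b, ?_⟩⟩
    · rw [Module.algebraMap_end_apply, Module.algebraMap_end_apply, ← algebraMap_smul (Localization T) (t : B) a,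
        ← algebraMap_smul (Localization T) (t : B) b] at hab
      exact hu.smul_left_cancel.1 hab
    · rw [Module.algebraMap_end_apply, ← algebraMap_smul (Localization T) (t : B), smul_smul, hu.mul_val_inv, one_smul]
  let e : LocalizedModule T N ≃ₗ[Localization T] N :=
    (IsLocalizedModule.iso T (LinearMap.id : N →ₗ[B] N)).extendScalarsOfIsLocalization T (Localization T)
  haveI : Module.FinitePresentation (Localization T) (LocalizedModule T N) := Module.FinitePresentation.of_equiv e.symm
  obtain ⟨n, K, φ, hK, hφ⟩ := FPDescent.exists_fp_descent T N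
  haveI : Module.FinitePresentation B ((Fin n → B) ⧸ K) :=
    Module.finitePresentation_of_surjective K.mkQ K.mkQ_surjective (by rw [Submodule.ker_mkQ]; exact hK)
  refine ⟨(Fin n → B) ⧸ K, inferInstance, inferInstance, φ, inferInstance, ?_⟩
  have hcomp : ∀ y, LocalizedModule.map T φ (LocalizedModule.mk y 1) = LocalizedModule.mk (φ y) 1 := fun y =>
    LocalizedModule.map_mk _ _ _ _
  refine ⟨hid.map_units, fun z => ?_, fun {a b} hab => ?_⟩
  · obtain ⟨w, hw⟩ := hφ.2 (LocalizedModule.mk z 1)
    induction w using LocalizedModule.induction_on with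
    | h y s =>
      rw [LocalizedModule.map_mk, LocalizedModule.mk_eq] at hw
      obtain ⟨c, hc⟩ := hw
      refine ⟨((c : B) • y, c * s), ?_⟩
      rw [map_smul, mul_smul, Submonoid.smul_def]
      rw [one_smul] at hc
      exact hc.symm
  · have h1 : LocalizedModule.mk a (1 : T) = LocalizedModule.mk b 1 := hφ.1 (by rw [hcomp, hcomp, hab])
    obtain ⟨c, hc⟩ := LocalizedModule.mk_eq.1 h1
    exact ⟨c, by simpa using hc⟩

/-- A presented module is a base change. -/
theorem exists_base_of_KK {A₀ A : Type u} [CommRing A₀] [CommRing A] [Algebra A₀ A] {d n : ℕ}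
    (K₀ : Submodule (MvPolynomial (Fin n) A₀) (FlatModel.V d n A₀)) {N : Type u} [AddCommGroup N] [Module A N]
    (e₀ : (FlatModel.V d n A ⧸ FlatModel.KK K₀ A) ≃ₗ[A] N) :
    ∃ (N₀ : Type u) (_ : AddCommGroup N₀) (_ : Module A₀ N₀), Nonempty ((A ⊗[A₀] N₀) ≃ₗ[A] N) := by
  obtain ⟨j, hj, -⟩ := FlatModel.exists_baseChange_KK (R := A) K₀
  exact ⟨FlatModel.V d n A₀ ⧸ K₀, inferInstance, inferInstance, ⟨hj.equiv.trans e₀⟩⟩

/-- A finitely presented module over a finitely presented algebra comes from a noetherian ring. -/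
theorem exists_noetherian_model {A B : Type u} [CommRing A] [CommRing B] [Algebra A B] [Algebra.FinitePresentation A B]
    (N : Type u) [AddCommGroup N] [Module B N] [Module A N] [IsScalarTower A B N] [Module.FinitePresentation B N] :
    ∃ (A₀ : Type u) (_ : CommRing A₀) (_ : IsNoetherianRing A₀) (_ : Algebra A₀ A)
      (N₀ : Type u) (_ : AddCommGroup N₀) (_ : Module A₀ N₀), Nonempty ((A ⊗[A₀] N₀) ≃ₗ[A] N) := by
  classical
  obtain ⟨n, φ, hφ, hker⟩ := Algebra.FinitePresentation.out (R := A) (A := B)
  letI : Algebra (MvPolynomial (Fin n) A) B := φ.toRingHom.toAlgebra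
  haveI : IsScalarTower A (MvPolynomial (Fin n) A) B := IsScalarTower.of_algebraMap_eq fun a => (φ.commutes a).symm
  haveI : Module.FinitePresentation (MvPolynomial (Fin n) A) B :=
    Module.finitePresentation_of_surjective (Algebra.linearMap (MvPolynomial (Fin n) A) B) hφ hker
  letI : Module (MvPolynomial (Fin n) A) N := Module.compHom N φ.toRingHom
  haveI : IsScalarTower (MvPolynomial (Fin n) A) B N := IsScalarTower.of_algebraMap_smul fun _ _ => rfl
  haveI : IsScalarTower A (MvPolynomial (Fin n) A) N := IsScalarTower.of_algebraMap_smul fun a z => by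
    show φ (algebraMap A _ a) • z = a • z
    rw [AlgHom.commutes, algebraMap_smul]
  haveI : Module.FinitePresentation (MvPolynomial (Fin n) A) N := Module.FinitePresentation.trans _ N B
  obtain ⟨d, π, hπ⟩ := Module.Finite.exists_fin' (MvPolynomial (Fin n) A) N
  obtain ⟨G, hG⟩ := Module.FinitePresentation.fg_ker π hπ
  let c : Finset A := G.biUnion fun v => Finset.univ.biUnion fun i => (v i).coeffs
  let A₀ : Subalgebra ℤ A := Algebra.adjoin ℤ (c : Set A)
  haveI : Algebra.FiniteType ℤ A₀ := (Subalgebra.fg_iff_finiteType A₀).1 (Subalgebra.fg_adjoin_finset c)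
  haveI : IsNoetherianRing A₀ := Algebra.FiniteType.isNoetherianRing ℤ A₀
  have hGdesc : ∀ v ∈ G, ∃ w : FlatModel.V d n A₀, FlatModel.mapV (algebraMap A₀ A) w = v := by
    intro v hv
    choose w hw using fun i => MvPolynomial.mem_range_map_iff_coeffs_subset (f := algebraMap A₀ A) (x := v i) |>.2
      fun x hx => ⟨⟨x, Algebra.subset_adjoin
        (Finset.mem_biUnion.2 ⟨v, hv, Finset.mem_biUnion.2 ⟨i, Finset.mem_univ _, hx⟩⟩)⟩, rfl⟩
    exact ⟨w, funext hw⟩
  choose! lv hlv using hGdesc
  let K₀ : Submodule (MvPolynomial (Fin n) A₀) (FlatModel.V d n A₀) := Submodule.span _ (lv '' G)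
  have hk : LinearMap.ker π = FlatModel.KK K₀ A := by
    apply le_antisymm
    · rw [← hG, Submodule.span_le]
      intro v hv
      exact Submodule.subset_span ⟨lv v, Submodule.subset_span ⟨v, hv, rfl⟩, hlv v hv⟩
    · rw [FlatModel.KK, Submodule.span_le]
      rintro _ ⟨w, hw, rfl⟩
      refine Submodule.span_le.2 ?_ (FlatModel.mapV_mem_span (algebraMap A₀ A) hw)
      rintro _ ⟨w, ⟨v, hv, rfl⟩, rfl⟩
      rw [hlv v hv]
      exact hG.le (Submodule.subset_span hv)
  let e₀ := ((Submodule.quotEquivOfEq _ _ hk.symm).trans (π.quotKerEquivOfSurjective hπ)).restrictScalars A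
  obtain ⟨N₀, _, _, he⟩ := exists_base_of_KK (A₀ := A₀) (A := A) K₀ e₀
  exact ⟨A₀, inferInstance, inferInstance, inferInstance, N₀, inferInstance, inferInstance, he⟩

/-- A module from a field is free after base change. -/
theorem free_baseChange {A₀ A R k₀ N N₀ : Type u} [CommRing A₀] [CommRing A] [CommRing R] [Field k₀] [Algebra A₀ A]
    [Algebra A R] [Algebra A₀ R] [IsScalarTower A₀ A R] [Algebra A₀ k₀] [Algebra k₀ R] [IsScalarTower A₀ k₀ R]
    [AddCommGroup N] [Module A N] [AddCommGroup N₀] [Module A₀ N₀] (e : (A ⊗[A₀] N₀) ≃ₗ[A] N) :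
    Module.Free R (R ⊗[A] N) :=
  Module.Free.of_equiv ((AlgebraTensorModule.cancelBaseChange A₀ k₀ R R N₀).trans
    ((AlgebraTensorModule.cancelBaseChange A₀ A R R N₀).symm.trans (LinearEquiv.baseChange A R _ _ e)))

/-- An element of `T` killing the `T`-torsion of the fibre. -/
theorem exists_killing_fibre {A B : Type u} [CommRing A] [CommRing B] [Algebra A B] [Algebra.FiniteType A B]
    (T : Submonoid B) (N : Type u) [AddCommGroup N] [Module B N] [Module A N] [IsScalarTower A B N] [Module.Finite B N]
    (p : Ideal A) [p.IsPrime] :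
    ∃ t ∈ T, ∀ s ∈ T, ∀ z : N ⊗[A] p.ResidueField, s • z = 0 → t • z = 0 := by
  classical
  letI : Algebra B (p.Fiber B) := Algebra.TensorProduct.rightAlgebra
  haveI : IsNoetherianRing (p.Fiber B) := Algebra.FiniteType.isNoetherianRing p.ResidueField _
  let W := (p.Fiber B) ⊗[B] N
  haveI : Module.Finite (p.Fiber B) W := inferInstance
  let K : Submodule (p.Fiber B) W :=
    { carrier := {w | ∃ s ∈ T, algebraMap B (p.Fiber B) s • w = 0}
      zero_mem' := ⟨1, one_mem _, smul_zero _⟩
      add_mem' := by
        rintro a b ⟨s, hs, hsa⟩ ⟨r, hr, hrb⟩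
        refine ⟨s * r, mul_mem hs hr, ?_⟩
        rw [map_mul, smul_add, mul_smul (algebraMap B (p.Fiber B) s) _ b, hrb, smul_zero, add_zero, mul_comm, mul_smul,
          hsa, smul_zero]
      smul_mem' := by
        rintro c w ⟨s, hs, hsw⟩
        exact ⟨s, hs, by rw [smul_comm, hsw, smul_zero]⟩ }
  obtain ⟨F, hF⟩ := IsNoetherian.noetherian K
  have hmem : ∀ w : F, ∃ s ∈ T, algebraMap B (p.Fiber B) s • (w : W) = 0 := fun w =>
    (hF.le (Submodule.subset_span w.2) : (w : W) ∈ K)
  choose s hs hsw using hmem
  have hkill : ∀ w ∈ K, algebraMap B (p.Fiber B) (∏ v, s v) • w = 0 := by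
    intro w hw
    rw [← hF] at hw
    induction hw using Submodule.span_induction with
    | mem w hw =>
      obtain ⟨b, hb⟩ := Finset.dvd_prod_of_mem s (Finset.mem_univ (⟨w, hw⟩ : F))
      rw [hb, mul_comm, map_mul, mul_smul, hsw ⟨w, hw⟩, smul_zero]
    | zero => exact smul_zero _
    | add a b _ _ ha hb => rw [smul_add, ha, hb, add_zero]
    | smul c a _ ha => rw [smul_comm, ha, smul_zero]
  haveI : Algebra.IsPushout A p.ResidueField B (p.Fiber B) := inferInstance
  let e : W ≃ₗ[p.ResidueField] p.ResidueField ⊗[A] N :=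
    Algebra.IsPushout.cancelBaseChange A p.ResidueField B (p.Fiber B) N
  have hes : ∀ c (n : N), e.symm (c ⊗ₜ[A] n) = algebraMap p.ResidueField (p.Fiber B) c ⊗ₜ[B] n := fun c n =>
    Algebra.IsPushout.cancelBaseChange_symm_tmul A p.ResidueField B (p.Fiber B) N c n
  let E : N ⊗[A] p.ResidueField → W := fun z => e.symm (TensorProduct.comm A N p.ResidueField z)
  have hEinj : Function.Injective E := e.symm.injective.comp (TensorProduct.comm A N p.ResidueField).injective
  have hE : ∀ (b : B) (z : N ⊗[A] p.ResidueField), E (b • z) = algebraMap B (p.Fiber B) b • E z := fun b z => by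
    induction z using TensorProduct.induction_on with
    | zero => simp [E]
    | add x y hx hy =>
      have hadd : ∀ x y, E (x + y) = E x + E y := fun x y => by simp [E]
      rw [smul_add, hadd, hadd, hx, hy, smul_add]
    | tmul n c =>
      show e.symm (c ⊗ₜ[A] (b • n)) = algebraMap B (p.Fiber B) b • e.symm (c ⊗ₜ[A] n)
      rw [hes, hes, TensorProduct.tmul_smul, algebraMap_smul]
  refine ⟨∏ v, s v, prod_mem fun v _ => hs v, fun r hr z hz => hEinj ?_⟩
  have h0 : E 0 = 0 := by simp [E]
  rw [hE, h0]
  exact hkill _ ⟨r, hr, by rw [← hE, hz, h0]⟩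

/-- Inverting the killing element makes the map to the localisation injective on the fibre. -/
theorem injective_lTensor_of_killing {A B : Type u} [CommRing A] [CommRing B] [Algebra A B] (T : Submonoid B) (t : B)
    {N₁ N₁' N : Type u} [AddCommGroup N₁] [Module B N₁] [Module A N₁] [IsScalarTower A B N₁]
    [AddCommGroup N₁'] [Module B N₁'] [Module A N₁'] [IsScalarTower A B N₁']
    [AddCommGroup N] [Module B N] [Module A N] [IsScalarTower A B N]
    (ι : N₁ →ₗ[B] N₁') [IsLocalizedModule (Submonoid.powers t) ι] (f : N₁ →ₗ[B] N) [IsLocalizedModule T f]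
    (f' : N₁' →ₗ[B] N) (hcomp : ∀ n, f' (ι n) = f n)
    (κ : Type u) [CommRing κ] [Algebra A κ]
    (h : ∀ s ∈ T, ∀ z : N₁ ⊗[A] κ, s • z = 0 → t • z = 0) :
    Function.Injective ((f'.restrictScalars A).lTensor κ) := by
  let φι : N₁ ⊗[A] κ →ₗ[B] N₁' ⊗[A] κ := AlgebraTensorModule.rTensor A κ ι
  let φ : N₁ ⊗[A] κ →ₗ[B] N ⊗[A] κ := AlgebraTensorModule.rTensor A κ f
  let φ' : N₁' ⊗[A] κ →ₗ[B] N ⊗[A] κ := AlgebraTensorModule.rTensor A κ f'
  have hφ : ∀ z, φ' (φι z) = φ z := fun z => by
    induction z using TensorProduct.induction_on with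
    | zero => simp
    | tmul n c => simp [φ, φ', φι, hcomp]
    | add a b ha hb => simp only [map_add, ha, hb]
  have hinj : Function.Injective φ' := by
    rw [injective_iff_map_eq_zero]
    intro z' hz'
    obtain ⟨⟨z, c⟩, hzc⟩ := IsLocalizedModule.surj (Submonoid.powers t) φι z'
    have h1 : φ z = 0 := by rw [← hφ, ← hzc, Submonoid.smul_def, map_smul, hz', smul_zero]
    obtain ⟨s, hs⟩ := (IsLocalizedModule.eq_zero_iff T φ).1 h1
    have h2 : (t * (c : B)) • z' = 0 := by
      rw [mul_smul, ← Submonoid.smul_def, hzc, ← map_smul, h s s.2 z hs, map_zero]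
    have hu := IsLocalizedModule.map_units φι (⟨t, Submonoid.mem_powers t⟩ * c : Submonoid.powers t)
    exact ((Module.End.isUnit_iff _).1 hu).1 (h2.trans (map_zero _).symm)
  have hc : ∀ z, TensorProduct.comm A N κ (φ' z) =
      (f'.restrictScalars A).lTensor κ (TensorProduct.comm A N₁' κ z) := fun z => by
    induction z using TensorProduct.induction_on with
    | zero => simp
    | tmul n c => simp [φ']
    | add a b ha hb => simp only [map_add, ha, hb]
  intro a b hab
  obtain ⟨a, rfl⟩ := (TensorProduct.comm A N₁' κ).surjective a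
  obtain ⟨b, rfl⟩ := (TensorProduct.comm A N₁' κ).surjective b
  rw [← hc, ← hc] at hab
  rw [hinj ((TensorProduct.comm A N κ).injective hab)]

/-- Injectivity passes to base changes given by universal properties. -/
theorem injective_lTensor_of_isBaseChange {A R k X Y X' Y' : Type u} [CommRing A] [CommRing R] [CommRing k]
    [Algebra A R] [Algebra A k] [Algebra R k] [IsScalarTower A R k] [AddCommGroup X] [Module A X] [AddCommGroup Y]
    [Module A Y] [AddCommGroup X'] [Module A X'] [Module R X'] [IsScalarTower A R X'] [AddCommGroup Y'] [Module A Y']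
    [Module R Y'] [IsScalarTower A R Y'] {jX : X →ₗ[A] X'} (hX : IsBaseChange R jX) {jY : Y →ₗ[A] Y'}
    (hY : IsBaseChange R jY) (u : X →ₗ[A] Y) (u' : X' →ₗ[R] Y') (hc : ∀ x, u' (jX x) = jY (u x))
    (h : Function.Injective (u.lTensor k)) : Function.Injective (u'.lTensor k) := by
  have hcomm : ∀ z, u' (hX.equiv z) = hY.equiv (u.baseChange R z) := fun z => by
    induction z using TensorProduct.induction_on with
    | zero => simp
    | tmul r x => rw [LinearMap.baseChange_tmul, hX.equiv_tmul, hY.equiv_tmul, map_smul, hc]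
    | add a b ha hb => simp only [map_add, ha, hb]
  have hinj := UnivInjHensel.injective_lTensor_baseChange (R := R) u h
  have hc2 : ∀ z, u'.lTensor k (hX.equiv.toLinearMap.lTensor k z) =
      hY.equiv.toLinearMap.lTensor k ((u.baseChange R).lTensor k z) := fun z => by
    induction z using TensorProduct.induction_on with
    | zero => simp
    | tmul c x => simp [hcomm]
    | add a b ha hb => simp only [map_add, ha, hb]
  intro a b hab
  obtain ⟨a, rfl⟩ := (LinearEquiv.lTensor k hX.equiv).surjective a
  obtain ⟨b, rfl⟩ := (LinearEquiv.lTensor k hX.equiv).surjective b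
  change u'.lTensor k (hX.equiv.toLinearMap.lTensor k a) = u'.lTensor k (hX.equiv.toLinearMap.lTensor k b) at hab
  rw [hc2, hc2] at hab
  rw [hinj ((LinearEquiv.lTensor k hY.equiv).injective hab)]

/-- A base change of a localised module is the localised base change. -/
theorem isBaseChange_of_localized {A R B B₁ L N₁ N N' : Type u} [CommRing A] [CommRing R] [CommRing B] [CommRing B₁]
    [CommRing L] [Algebra A R] [Algebra A B] [Algebra R B₁] [Algebra B B₁] [Algebra A B₁] [IsScalarTower A R B₁]
    [IsScalarTower A B B₁] [Algebra.IsPushout A B R B₁] (T : Submonoid B) [Algebra B₁ L]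
    [IsLocalization (T.map (algebraMap B B₁)) L] [Algebra R L] [IsScalarTower R B₁ L] [Algebra B L]
    [IsScalarTower B B₁ L] [Algebra A L] [IsScalarTower A R L] [IsScalarTower A B L]
    [AddCommGroup N₁] [Module B N₁]
    [AddCommGroup N] [Module B N] [Module A N] [IsScalarTower A B N] (f : N₁ →ₗ[B] N) [IsLocalizedModule T f]
    [AddCommGroup N'] [Module L N'] [Module R N'] [IsScalarTower R L N'] [Module B N'] [IsScalarTower B L N']
    [Module A N'] [IsScalarTower A R N'] [IsScalarTower A B N']
    (h : N →ₗ[B] N') (hh : IsBaseChange R (h.restrictScalars A)) :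
    IsBaseChange L (h ∘ₗ f) := by
  have hT : ∀ (X : Type u) [AddCommGroup X] [Module L X] [Module B X] [IsScalarTower B L X] (t : T),
      IsUnit (algebraMap B (Module.End B X) t) := by
    intro X _ _ _ _ t
    have hu : IsUnit (algebraMap B L t) := by
      rw [IsScalarTower.algebraMap_apply B B₁ L]
      exact IsLocalization.map_units L (⟨algebraMap B B₁ t, Submonoid.mem_map_of_mem _ t.2⟩ : T.map (algebraMap B B₁))
    rw [Module.End.isUnit_iff]
    refine ⟨fun a b hab => ?_, fun b => ⟨(hu.unit⁻¹ : Lˣ).val • b, ?_⟩⟩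
    · rw [Module.algebraMap_end_apply, Module.algebraMap_end_apply, ← algebraMap_smul L (t : B) a,
        ← algebraMap_smul L (t : B) b] at hab
      exact hu.smul_left_cancel.1 hab
    · rw [Module.algebraMap_end_apply, ← algebraMap_smul L (t : B), smul_smul, hu.mul_val_inv, one_smul]
  let X := L ⊗[B] N₁
  haveI : SMulCommClass B R L :=
    ⟨fun b r l => by rw [← algebraMap_smul L r l, ← algebraMap_smul L r (b • l), smul_comm]⟩
  let φ : X →ₗ[L] N' := (h ∘ₗ f).liftBaseChange L
  let mk₁ : N₁ →ₗ[B] X := TensorProduct.mk B L N₁ 1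
  let l : N →ₗ[B] X := IsLocalizedModule.lift T f mk₁ (hT X)
  have hl : ∀ n, l (f n) = mk₁ n := fun n => IsLocalizedModule.lift_apply T f mk₁ (hT X) n
  let ψ : N' →ₗ[R] X := hh.lift (l.restrictScalars A)
  have hψ : ∀ n, ψ (h n) = l n := fun n => hh.lift_eq (l.restrictScalars A) n
  have hφl : ∀ n, φ (l n) = h n := by
    have : (φ.restrictScalars B) ∘ₗ l = h := IsLocalizedModule.ext T f (hT N') (LinearMap.ext fun n => by
      show φ (l (f n)) = h (f n)
      rw [hl]
      show (h ∘ₗ f).liftBaseChange L ((1 : L) ⊗ₜ[B] n) = h (f n)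
      rw [LinearMap.liftBaseChange_tmul, one_smul, LinearMap.comp_apply])
    exact fun n => LinearMap.congr_fun this n
  have h1 : ∀ z, φ (ψ z) = z := by
    have : (φ.restrictScalars R) ∘ₗ ψ = LinearMap.id := hh.algHom_ext _ _ fun n => by
      show φ (ψ (h n)) = h n
      rw [hψ, hφl]
    exact fun z => LinearMap.congr_fun this z
  have h2 : Function.Surjective ψ := by
    let Rg : Submodule R X := LinearMap.range ψ
    have hl' : ∀ (b : B) (n : N₁) (t : T) (y : L), algebraMap B L t * y = 1 →
        (algebraMap B L b * y) ⊗ₜ[B] n ∈ Rg := by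
      intro b n t y hy
      obtain ⟨n', hn'⟩ := ((Module.End.isUnit_iff _).1 (IsLocalizedModule.map_units f t)).2 (f n)
      rw [Module.algebraMap_end_apply] at hn'
      refine ⟨h (b • n'), ?_⟩
      rw [hψ, map_smul]
      apply ((Module.End.isUnit_iff _).1 (hT X t)).1
      rw [Module.algebraMap_end_apply, Module.algebraMap_end_apply, smul_comm, ← map_smul, hn', hl]
      show b • ((1 : L) ⊗ₜ[B] n) = (t : B) • ((algebraMap B L b * y) ⊗ₜ[B] n)
      rw [TensorProduct.smul_tmul', TensorProduct.smul_tmul', Algebra.smul_def, Algebra.smul_def, mul_left_comm, hy]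
    intro x
    suffices hx : x ∈ Rg from hx
    induction x using TensorProduct.induction_on with
    | zero => exact zero_mem _
    | add a b ha hb => exact add_mem ha hb
    | tmul c n =>
      obtain ⟨⟨b₁, ⟨_, t, ht, rfl⟩⟩, hc⟩ := IsLocalization.surj (T.map (algebraMap B B₁)) c
      have hu : IsUnit (algebraMap B L t) := by
        rw [IsScalarTower.algebraMap_apply B B₁ L]
        exact IsLocalization.map_units L
          (⟨algebraMap B B₁ t, Submonoid.mem_map_of_mem _ ht⟩ : T.map (algebraMap B B₁))
      obtain ⟨y, hy⟩ := hu.exists_right_inv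
      have hc' : c = algebraMap B₁ L b₁ * y := by
        rw [← hc, ← IsScalarTower.algebraMap_apply B B₁ L, mul_assoc, hy, mul_one]
      rw [hc']
      clear hc hc'
      induction b₁ using (Algebra.IsPushout.symm ‹Algebra.IsPushout A B R B₁›).out.inductionOn with
      | zero => rw [map_zero, zero_mul, TensorProduct.zero_tmul]; exact zero_mem _
      | add a b ha hb => rw [map_add, add_mul, TensorProduct.add_tmul]; exact add_mem ha hb
      | smul r a ha =>
        rw [Algebra.smul_def, map_mul, ← IsScalarTower.algebraMap_apply R B₁ L, mul_assoc, ← Algebra.smul_def,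
          ← TensorProduct.smul_tmul']
        exact Rg.smul_mem r ha
      | tmul b =>
        rw [show (IsScalarTower.toAlgHom A B B₁).toLinearMap b = algebraMap B B₁ b from rfl,
          ← IsScalarTower.algebraMap_apply B B₁ L]
        exact hl' b n ⟨t, ht⟩ y hy
  have hb : Function.Bijective φ := by
    refine ⟨fun a b hab => ?_, fun z => ⟨ψ z, h1 z⟩⟩
    obtain ⟨a, rfl⟩ := h2 a
    obtain ⟨b, rfl⟩ := h2 b
    rw [h1, h1] at hab
    rw [hab]
  refine IsBaseChange.of_equiv (LinearEquiv.ofBijective φ hb) fun n => ?_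
  show (h ∘ₗ f).liftBaseChange L ((1 : L) ⊗ₜ[B] n) = h (f n)
  rw [LinearMap.liftBaseChange_tmul, one_smul, LinearMap.comp_apply]

end Groth.Agent.PureSpread
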