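import Groth.Agent.PureSpread.Basic
import Mathlib.AlgebraicGeometry.OpenImmersion

/-!
# Pure spreadouts from a free model
-/

set_option autoImplicit false
set_option linter.style.haveILetI false
set_option linter.unusedSectionVars false
set_option backward.isDefEq.respectTransparency false
set_option backward.isDefEq.respectTransparency.types false
set_option maxHeartbeats 1000000

universe u

open TensorProduct AlgebraicGeometry IsLocalRing

namespace Groth.Agent.PureSpread

/-- A free model whose map to the localisation is injective on the closed fibre gives a pure spreadout. -/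
theorem hasPureSpreadout_of_model {A B R B₁ : Type u} [CommRing A] [CommRing B] [Algebra A B]
    [CommRing R] [IsLocalRing R] [Algebra A R] [CommRing B₁] [Algebra B B₁] [Algebra R B₁] [Algebra A B₁]
    [IsScalarTower A B B₁] [IsScalarTower A R B₁] [Algebra.IsPushout A B R B₁]
    (T : Submonoid B) (t : B) (ht : t ∈ T)
    {M : Type u} [AddCommGroup M] [Module B M] [Module.FinitePresentation B M]
    {N : Type u} [AddCommGroup N] [Module B N] [Module A N] [IsScalarTower A B N]
    (f : M →ₗ[B] N) [IsLocalizedModule T f]
    (f' : Localization.Away t ⊗[B] M →ₗ[B] N) (hf' : ∀ m : M, f' (1 ⊗ₜ[B] m) = f m)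
    (hfree : Module.Free R (R ⊗[A] (Localization.Away t ⊗[B] M)))
    (hinj : Function.Injective ((f'.restrictScalars A).lTensor (R ⧸ maximalIdeal R)))
    (N₁ : Type u) [AddCommGroup N₁] [Module (Localization (T.map (algebraMap B B₁))) N₁] [Module R N₁]
    [IsScalarTower R (Localization (T.map (algebraMap B B₁))) N₁]
    [Module B N₁] [IsScalarTower B (Localization (T.map (algebraMap B B₁))) N₁]
    [Module A N₁] [IsScalarTower A R N₁] [IsScalarTower A B N₁]
    (h : N →ₗ[B] N₁) (hh : IsBaseChange R (h.restrictScalars A)) :
    FlatCA.HasPureSpreadout R B₁ (T.map (algebraMap B B₁)) N₁ := by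
  let T₁ := T.map (algebraMap B B₁)
  let L := Localization T₁
  let t₁ := algebraMap B B₁ t
  let B' := Localization.Away t
  let C := Localization.Away t₁
  have htC : IsUnit (algebraMap B C t) := by
    rw [IsScalarTower.algebraMap_apply B B₁ C]
    exact IsLocalization.Away.algebraMap_isUnit t₁
  have htL : IsUnit (algebraMap B₁ L t₁) :=
    IsLocalization.map_units L (⟨t₁, Submonoid.mem_map_of_mem _ ht⟩ : T₁)
  letI : Algebra B' C := (IsLocalization.Away.lift t htC).toAlgebra
  haveI : IsScalarTower B B' C := IsScalarTower.of_algebraMap_eq fun b => (IsLocalization.Away.lift_eq t htC b).symm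
  haveI : IsLocalization (Algebra.algebraMapSubmonoid B₁ (Submonoid.powers t)) C := by
    rw [Algebra.algebraMapSubmonoid_powers]
    infer_instance
  haveI : Algebra.IsPushout B B₁ B' C := (Algebra.isLocalization_iff_isPushout (Submonoid.powers t) B').1 inferInstance
  haveI : Algebra.IsPushout B B' B₁ C := Algebra.IsPushout.symm inferInstance
  haveI : Algebra.IsPushout A R B B₁ := Algebra.IsPushout.symm inferInstance
  haveI : IsScalarTower A B' C := IsScalarTower.of_algebraMap_eq fun a => by
    rw [IsScalarTower.algebraMap_apply A B B', ← IsScalarTower.algebraMap_apply B B' C, ← IsScalarTower.algebraMap_apply A B C]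
  haveI hpo : Algebra.IsPushout A R B' C := by
    haveI : Algebra.IsPushout A B R B₁ := inferInstance
    exact ((Algebra.IsPushout.comp_iff A B R B₁ (T := B') (T' := C)).2 inferInstance).symm
  haveI : Algebra.IsPushout A B' R C := hpo.symm
  letI : Algebra C L := (IsLocalization.Away.lift t₁ htL).toAlgebra
  haveI : IsScalarTower B₁ C L := IsScalarTower.of_algebraMap_eq fun b => (IsLocalization.Away.lift_eq t₁ htL b).symm
  haveI : IsScalarTower R C L := IsScalarTower.of_algebraMap_eq fun r => by
    rw [IsScalarTower.algebraMap_apply R B₁ C, ← IsScalarTower.algebraMap_apply B₁ C L,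
      ← IsScalarTower.algebraMap_apply R B₁ L]
  haveI : IsScalarTower B C L := IsScalarTower.of_algebraMap_eq fun b => by
    rw [IsScalarTower.algebraMap_apply B B₁ C, ← IsScalarTower.algebraMap_apply B₁ C L,
      ← IsScalarTower.algebraMap_apply B B₁ L]
  haveI : IsScalarTower A R L := inferInstance
  haveI : IsScalarTower A B L := inferInstance
  letI : Module C N₁ := Module.compHom N₁ (algebraMap C L)
  haveI : IsScalarTower C L N₁ := IsScalarTower.of_algebraMap_smul fun _ _ => rfl
  haveI : IsScalarTower R C N₁ := IsScalarTower.of_algebraMap_smul fun r z => by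
    rw [← algebraMap_smul L (algebraMap R C r) z, ← IsScalarTower.algebraMap_apply R C L, algebraMap_smul]
  haveI : IsScalarTower B C N₁ := IsScalarTower.of_algebraMap_smul fun b z => by
    rw [← algebraMap_smul L (algebraMap B C b) z, ← IsScalarTower.algebraMap_apply B C L, algebraMap_smul]
  haveI : SMulCommClass B R C :=
    ⟨fun b r c => by rw [← algebraMap_smul C r c, ← algebraMap_smul C r (b • c), smul_comm]⟩
  -- the model
  let N' := C ⊗[B] M
  let g : N' →ₗ[C] N₁ := (h ∘ₗ f).liftBaseChange C
  have hL : IsBaseChange L (h ∘ₗ f) := isBaseChange_of_localized (B₁ := B₁) T f h hh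
  have hg : IsBaseChange L g := IsBaseChange.of_comp (TensorProduct.isBaseChange B M C) (by
    convert hL using 1
    refine LinearMap.ext fun m => ?_
    show (h ∘ₗ f).liftBaseChange C ((1 : C) ⊗ₜ[B] m) = h (f m)
    rw [LinearMap.liftBaseChange_tmul, one_smul, LinearMap.comp_apply])
  let X := B' ⊗[B] M
  let ι : M →ₗ[B] X := TensorProduct.mk B B' M 1
  haveI : IsScalarTower A B' N' := IsScalarTower.of_algebraMap_smul fun a z => by
    rw [← algebraMap_smul C (algebraMap A B' a) z, ← IsScalarTower.algebraMap_apply A B' C, algebraMap_smul]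
  let j : X →ₗ[B'] N' := (TensorProduct.isBaseChange B M B').lift (TensorProduct.mk B C M 1)
  have hj1 : ∀ m, j ((1 : B') ⊗ₜ[B] m) = (1 : C) ⊗ₜ[B] m := fun m =>
    (TensorProduct.isBaseChange B M B').lift_eq (TensorProduct.mk B C M 1) m
  have hjC : IsBaseChange C j := IsBaseChange.of_comp (TensorProduct.isBaseChange B M B') (by
    rw [IsBaseChange.lift_comp]
    exact TensorProduct.isBaseChange B M C)
  have hj : IsBaseChange R (j.restrictScalars A) := RG.isBaseChange_restrict j hjC
  haveI : Module.Projective R N' := by
    haveI := hfree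
    exact Module.Projective.of_equiv hj.equiv
  haveI : Module.Flat R N₁ := by
    haveI : IsLocalization ((T₁ : Submonoid B₁).map (algebraMap B₁ C)) L :=
      IsLocalization.isLocalization_of_submonoid_le C L (Submonoid.powers t₁) T₁ (by
        rw [Submonoid.powers_le]; exact Submonoid.mem_map_of_mem _ ht)
    haveI : Module.Flat C L := IsLocalization.flat L ((T₁ : Submonoid B₁).map (algebraMap B₁ C))
    haveI : Module.Flat R (L ⊗[C] N') := RG.flat_tensor N'
    exact Module.Flat.of_linearEquiv (hg.equiv.restrictScalars R).symm
  refine ⟨C, inferInstance, inferInstance, inferInstance, inferInstance, inferInstance, inferInstance, inferInstance,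
    inferInstance, inferInstance, inferInstance, N', inferInstance, inferInstance, inferInstance, inferInstance, g,
    Scheme.isOpenImmersion_SpecMap_localizationAway (R := CommRingCat.of B₁) t₁, inferInstance, hg, inferInstance,
    RG.univInj_of_projective_of_mod_maximal _ fun m hm x hx => ?_⟩
  rw [show m = maximalIdeal R from IsLocalRing.eq_maximalIdeal hm] at hx ⊢
  refine RG.mem_smul_top_of_lTensor_injective _ _ ?_ hx
  refine injective_lTensor_of_isBaseChange hj hh (f'.restrictScalars A) (g.restrictScalars R) (fun z => ?_) hinj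
  -- compatibility on the model
  show g (j z) = h (f' z)
  have hu : ∀ x : Submonoid.powers t, IsUnit (algebraMap B (Module.End B N₁) x) := fun x => by
    obtain ⟨k, hk⟩ := x.2
    have hu : IsUnit (algebraMap B L (x : B)) := by
      rw [← show t ^ k = (x : B) from hk, map_pow, IsScalarTower.algebraMap_apply B B₁ L]
      exact htL.pow k
    rw [Module.End.isUnit_iff]
    refine ⟨fun a b hab => ?_, fun b => ⟨(hu.unit⁻¹ : Lˣ).val • b, ?_⟩⟩
    · rw [Module.algebraMap_end_apply, Module.algebraMap_end_apply, ← algebraMap_smul L (x : B) a,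
        ← algebraMap_smul L (x : B) b] at hab
      exact hu.smul_left_cancel.1 hab
    · rw [Module.algebraMap_end_apply, ← algebraMap_smul L (x : B), smul_smul, hu.mul_val_inv, one_smul]
  haveI : IsLocalizedModule (Submonoid.powers t) ι :=
    (isLocalizedModule_iff_isBaseChange (Submonoid.powers t) B' ι).2 (TensorProduct.isBaseChange B M B')
  have : (g.restrictScalars B) ∘ₗ (j.restrictScalars B) = h ∘ₗ f' :=
    IsLocalizedModule.ext (Submonoid.powers t) ι hu (LinearMap.ext fun m => by
      show g (j ((1 : B') ⊗ₜ[B] m)) = h (f' ((1 : B') ⊗ₜ[B] m))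
      rw [hj1, hf']
      show (h ∘ₗ f).liftBaseChange C ((1 : C) ⊗ₜ[B] m) = h (f m)
      rw [LinearMap.liftBaseChange_tmul, one_smul, LinearMap.comp_apply])
  exact LinearMap.congr_fun this z

end Groth.Agent.PureSpread
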